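import Mathlib
import Cfsg.Agent.Lib.Comput.NetModel

/-! generated by tools/cgt -/

set_option autoImplicit false
set_option maxRecDepth 100000
set_option Elab.async false

namespace CfsgLib.MultC.M22.C

open CfsgLib.Comput

noncomputable def n0 : Net :=
  Net.cons 1 0x511404
  (Net.cons 2 0x312220
  (Net.cons 4 0x80500
  (Net.cons 8 0x41
  (Net.cons 16 0xe3
  (Net.cons 8 0x19
  (Net.cons 4 0x60708
  (Net.cons 2 0x302130
  (Net.cons 1 0x451010
  (Net.nil)))))))))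

noncomputable def n2 : Net :=
  Net.cons 1 0x444104
  (Net.cons 2 0x211220
  (Net.cons 4 0x60000
  (Net.cons 8 0x41
  (Net.cons 16 0xcb
  (Net.cons 8 0xa9
  (Net.cons 4 0xd0a04
  (Net.cons 2 0x232130
  (Net.cons 1 0x404550
  (Net.nil)))))))))

noncomputable def n4 : Net :=
  Net.cons 1 0x111140
  (Net.cons 2 0x300110
  (Net.cons 4 0xe0b00
  (Net.cons 8 0xa1
  (Net.cons 16 0xa5
  (Net.cons 8 0x15
  (Net.cons 4 0x70400
  (Net.cons 2 0x313100
  (Net.cons 1 0x10104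
  (Net.nil)))))))))

noncomputable def n6 : Net :=
  Net.cons 1 0x150440
  (Net.cons 2 0x112100
  (Net.cons 4 0xc0500
  (Net.cons 8 0x84
  (Net.cons 16 0xd4
  (Net.cons 8 0xf0
  (Net.cons 4 0xd0e0c
  (Net.cons 2 0x131030
  (Net.cons 1 0x105404
  (Net.nil)))))))))

noncomputable def n8 : Net :=
  Net.cons 1 0x400400
  (Net.cons 2 0x1200
  (Net.cons 4 0x10000
  (Net.cons 8 0x32
  (Net.cons 16 0xb2
  (Net.cons 8 0x1a
  (Net.cons 4 0x20608
  (Net.cons 2 0x203120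
  (Net.cons 1 0x400450
  (Net.nil)))))))))

noncomputable def n10 : Net :=
  Net.cons 1 0x401000
  (Net.cons 2 0x10000
  (Net.cons 4 0xc0100
  (Net.cons 8 0xa3
  (Net.cons 16 0xfb
  (Net.cons 8 0x83
  (Net.cons 4 0x40408
  (Net.cons 2 0x11000
  (Net.cons 1 0x555540
  (Net.nil)))))))))

noncomputable def n12 : Net :=
  Net.cons 1 0x155000
  (Net.cons 2 0x103200
  (Net.cons 4 0x50400
  (Net.cons 8 0x39
  (Net.cons 16 0x79
  (Net.cons 8 0x49
  (Net.cons 4 0x60100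
  (Net.cons 2 0x13120
  (Net.cons 1 0x105150
  (Net.nil)))))))))

noncomputable def n14 : Net :=
  Net.cons 1 0x14400
  (Net.cons 2 0x300100
  (Net.cons 4 0x20000
  (Net.cons 8 0x64
  (Net.cons 16 0x74
  (Net.cons 8 0x64
  (Net.cons 4 0xa0100
  (Net.cons 2 0x300300
  (Net.cons 1 0x14440
  (Net.nil)))))))))

noncomputable def n15 : Net :=
  Net.cons 1 0x404400
  (Net.cons 2 0x101000
  (Net.cons 4 0xf0a00
  (Net.cons 8 0x68
  (Net.cons 16 0xf8
  (Net.cons 8 0x58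
  (Net.cons 4 0x10000
  (Net.cons 2 0x332100
  (Net.cons 1 0x404100
  (Net.nil)))))))))

noncomputable def n17 : Net :=
  Net.cons 1 0x511040
  (Net.cons 2 0x223200
  (Net.cons 4 0x80800
  (Net.cons 8 0xc
  (Net.cons 16 0x9c
  (Net.cons 8 0x4c
  (Net.cons 4 0xa0a00
  (Net.cons 2 0x223200
  (Net.cons 1 0x511140
  (Net.nil)))))))))

noncomputable def n18 : Net :=
  Net.cons 1 0x500400
  (Net.cons 2 0x302000
  (Net.cons 4 0xb0800
  (Net.cons 8 0xe
  (Net.cons 16 0xde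
  (Net.cons 8 0xe
  (Net.cons 4 0xb0300
  (Net.cons 2 0x100200
  (Net.cons 1 0x500400
  (Net.nil)))))))))

noncomputable def n19 : Net :=
  Net.cons 1 0x100
  (Net.cons 2 0x1000
  (Net.cons 4 0x60900
  (Net.cons 8 0x6
  (Net.cons 16 0x6
  (Net.cons 8 0xd6
  (Net.cons 4 0x70900
  (Net.cons 2 0x3000
  (Net.cons 1 0x40100
  (Net.nil)))))))))

noncomputable def W : List Net := [n0, n0.rev, n2, n2.rev, n4, n4.rev, n6, n6.rev, n8, n8.rev, n10, n10.rev, n12, n12.rev, n14, n15, n15.rev, n17, n18, n19]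

theorem W_ok : allL (Net.ok 24) W = true := by decide +kernel

end CfsgLib.MultC.M22.C
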